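import Mathlib
import Groth.Prelude.Def_CAlgX
import Groth.Agent.Lib.SeqKinds.BaseChange
import Groth.Agent.Lib.SeqKinds.NoetherianLocal
import Groth.Agent.Lib.RelReg.Fibre
import Groth.Agent.Lib.FibreFlat.RegularFlat
import Groth.Agent.Lib.FibreFlat.StalkAlg

/-!
# Flatness of the quotient by a sequence which is quasi-regular modulo a nil ideal
-/

universe u

namespace GrothLib.QRegNil

open IsLocalRing RingTheory.Sequence
open scoped TensorProduct

/-- A quasi-regular sequence with flat quotient stays quasi-regular modulo an ideal of the base. -/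
theorem isQuasiRegular_quot {R A : Type u} [CommRing R] [CommRing A] [Algebra R A] {c : ℕ} (a : Fin c → A)
    [Module.Flat R (A ⧸ Ideal.span (Set.range a))] (hq : CAlgX.IsQuasiRegular a) (P : Ideal R) :
    CAlgX.IsQuasiRegular fun i => Ideal.Quotient.mk (P.map (algebraMap R A)) (a i) := by
  have h := GrothLib.SeqKinds.isQuasiRegular_baseChange (R := R) (R ⧸ P) a hq
  let e := ((Algebra.TensorProduct.quotIdealMapEquivTensorQuot A P).toRingEquiv.trans
    (Algebra.TensorProduct.comm R A (R ⧸ P)).toRingEquiv).symm
  have := GrothLib.SeqKinds.isQuasiRegular_map e.toRingHom (RingHom.Flat.of_bijective e.bijective) _ h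
  convert this using 1
  funext i
  refine e.symm.injective ?_
  refine Eq.trans ?_ (e.symm_apply_apply _).symm
  show (Algebra.TensorProduct.comm R A (R ⧸ P))
    (Algebra.TensorProduct.quotIdealMapEquivTensorQuot A P (Ideal.Quotient.mk _ (a i))) = _
  rw [Algebra.TensorProduct.quotIdealMapEquivTensorQuot_mk]
  rfl

/-- The map on quotients induced by a flat map is flat. -/
theorem flat_quotientMap {B S : Type u} [CommRing B] [CommRing S] [Algebra B S] [Module.Flat B S]
    (K : Ideal B) : (Ideal.quotientMap (K.map (algebraMap B S)) (algebraMap B S) Ideal.le_comap_map).Flat := by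
  letI := (Ideal.quotientMap (K.map (algebraMap B S)) (algebraMap B S) Ideal.le_comap_map).toAlgebra
  show Module.Flat (B ⧸ K) (S ⧸ K.map (algebraMap B S))
  let e₀ := (Algebra.TensorProduct.quotIdealMapEquivTensorQuot S K).toRingEquiv.trans
    (Algebra.TensorProduct.comm B S (B ⧸ K)).toRingEquiv
  let e : (S ⧸ K.map (algebraMap B S)) ≃ₗ[B ⧸ K] (B ⧸ K) ⊗[B] S :=
    { e₀ with
      map_smul' := fun c x => by
        obtain ⟨c, rfl⟩ := Ideal.Quotient.mk_surjective c
        show e₀ (Ideal.Quotient.mk _ (algebraMap B S c) * x) = Ideal.Quotient.mk K c • e₀ x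
        rw [map_mul, Algebra.smul_def]
        congr 1
        show (Algebra.TensorProduct.comm B S (B ⧸ K))
          (Algebra.TensorProduct.quotIdealMapEquivTensorQuot S K (Ideal.Quotient.mk _ (algebraMap B S c))) = _
        rw [Algebra.TensorProduct.quotIdealMapEquivTensorQuot_mk, Algebra.TensorProduct.comm_tmul,
          Algebra.TensorProduct.algebraMap_apply, Algebra.algebraMap_self, RingHom.id_apply,
          Algebra.algebraMap_eq_smul_one (A := S), TensorProduct.tmul_smul, TensorProduct.smul_tmul',
          ← Algebra.algebraMap_eq_smul_one]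
        rfl }
  exact Module.Flat.of_linearEquiv e

/-- A regular sequence on the fibre of a flat local algebra, essentially of finite presentation,
cuts out a flat quotient. -/
theorem flat_quot_of_fibre_regular {R S : Type u} [CommRing R] [CommRing S] [IsLocalRing R]
    [IsLocalRing S] [Algebra R S] [IsLocalHom (algebraMap R S)]
    (hS : CAlgX.IsEssFinitePresentation R S) [Module.Flat R S] {r : ℕ} (a : Fin r → S)
    (hreg : IsRegular (S ⧸ (maximalIdeal R).map (algebraMap R S))
      ((List.ofFn a).map (Ideal.Quotient.mk ((maximalIdeal R).map (algebraMap R S))))) :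
    Module.Flat R (S ⧸ Ideal.span (Set.range a)) := by
  have hfl := GrothLib.FibreFlat.flat_aeval_of_fibre_regular hS a hreg
  letI : Algebra (MvPolynomial (Fin r) R) S := (MvPolynomial.aeval (R := R) a).toRingHom.toAlgebra
  haveI : Module.Flat (MvPolynomial (Fin r) R) S := hfl
  let K := RingHom.ker (MvPolynomial.aeval (R := R) (0 : Fin r → R)).toRingHom
  have hmap : K.map (algebraMap (MvPolynomial (Fin r) R) S) = Ideal.span (Set.range a) := by
    show (RingHom.ker (MvPolynomial.aeval (R := R) (0 : Fin r → R)).toRingHom).map _ = _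
    rw [← GrothLib.FibreFlat.ofList_X_eq_ker, Ideal.ofList, Ideal.map_span]
    congr 1
    ext x
    simp [List.mem_ofFn, RingHom.algebraMap_toAlgebra]
  have hflat := flat_quotientMap (S := S) K
  have hbij : Function.Bijective (algebraMap R (MvPolynomial (Fin r) R ⧸ K)) := by
    refine ⟨fun x y hxy => ?_, fun z => ?_⟩
    · rw [IsScalarTower.algebraMap_apply R (MvPolynomial (Fin r) R), IsScalarTower.algebraMap_apply R (MvPolynomial (Fin r) R) (_ ⧸ K),
        Ideal.Quotient.algebraMap_eq, Ideal.Quotient.eq] at hxy
      simpa [K, RingHom.mem_ker, sub_eq_zero] using hxy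
    · obtain ⟨p, rfl⟩ := Ideal.Quotient.mk_surjective z
      refine ⟨MvPolynomial.aeval (R := R) (0 : Fin r → R) p, ?_⟩
      rw [IsScalarTower.algebraMap_apply R (MvPolynomial (Fin r) R) (_ ⧸ K), Ideal.Quotient.algebraMap_eq,
        Ideal.Quotient.eq]
      simp [K, RingHom.mem_ker]
  have h : ((Ideal.quotientMap (K.map (algebraMap (MvPolynomial (Fin r) R) S)) (algebraMap (MvPolynomial (Fin r) R) S)
      Ideal.le_comap_map).comp (algebraMap R (MvPolynomial (Fin r) R ⧸ K))).Flat :=
    (RingHom.Flat.of_bijective hbij).comp hflat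
  have h2 : (Ideal.quotientMap (K.map (algebraMap (MvPolynomial (Fin r) R) S)) (algebraMap (MvPolynomial (Fin r) R) S)
      Ideal.le_comap_map).comp (algebraMap R (MvPolynomial (Fin r) R ⧸ K)) =
        algebraMap R (S ⧸ K.map (algebraMap (MvPolynomial (Fin r) R) S)) := by
    refine RingHom.ext fun x => ?_
    show Ideal.Quotient.mk _ (MvPolynomial.aeval (R := R) a (algebraMap R _ x)) = _
    rw [AlgHom.commutes]
    rfl
  rw [h2, RingHom.flat_algebraMap_iff] at h
  exact hmap ▸ h

/-- If `f` is quasi-regular modulo a nil ideal `I` of the base, with flat quotient, then its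
quotient is flat over the base. -/
theorem flat_quot_of_quasiRegular_mod_nil {A' B' : Type u} [CommRing A'] [CommRing B'] [Algebra A' B']
    [Module.Flat A' B'] [Algebra.FinitePresentation A' B'] (I : Ideal A') (hI : ∀ x ∈ I, IsNilpotent x)
    {r : ℕ} (f : Fin r → B')
    (hq : CAlgX.IsQuasiRegular (fun i => Ideal.Quotient.mk (Ideal.map (algebraMap A' B') I) (f i)))
    (hflat : Module.Flat (A' ⧸ I)
      ((B' ⧸ Ideal.map (algebraMap A' B') I) ⧸
        Ideal.span (Set.range (fun i => Ideal.Quotient.mk (Ideal.map (algebraMap A' B') I) (f i))))) :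
    Module.Flat A' (B' ⧸ Ideal.span (Set.range f)) := by
  classical
  set J := Ideal.span (Set.range f) with hJ
  refine Module.flat_of_isLocalized_maximal B' (B' ⧸ J)
    (fun q _ => Localization.AtPrime q ⧸ Submodule.localized' (Localization.AtPrime q) q.primeCompl
      (Algebra.linearMap B' (Localization.AtPrime q)) J)
    (fun q _ => Submodule.toLocalizedQuotient' (Localization.AtPrime q) q.primeCompl
      (Algebra.linearMap B' (Localization.AtPrime q)) J) fun q _ => ?_
  rw [Ideal.localized'_eq_map (Localization.AtPrime q) q.primeCompl J]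
  set S := Localization.AtPrime q
  by_cases hJq : J ≤ q
  swap
  · have htop : J.map (algebraMap B' S) = ⊤ := by
      obtain ⟨x, hx, hxq⟩ := SetLike.not_le_iff_exists.mp hJq
      exact Ideal.eq_top_of_isUnit_mem _ (Ideal.mem_map_of_mem _ hx)
        (IsLocalization.map_units S (⟨x, hxq⟩ : q.primeCompl))
    haveI : Subsingleton (S ⧸ J.map (algebraMap B' S)) := Ideal.Quotient.subsingleton_iff.mpr htop
    infer_instance
  let p := q.comap (algebraMap A' B')
  haveI hpp : p.IsPrime := Ideal.IsPrime.comap _
  have hIp : I ≤ p := fun x hx => by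
    obtain ⟨m, hm⟩ := hI x hx
    exact hpp.mem_of_pow_mem m (by rw [hm]; exact p.zero_mem)
  let R := Localization.AtPrime p
  letI : Algebra R S := (Localization.localRingHom p q (algebraMap A' B') rfl).toAlgebra
  haveI : IsLocalHom (algebraMap R S) := Localization.isLocalHom_localRingHom p q (algebraMap A' B') rfl
  haveI : IsScalarTower A' R S := IsScalarTower.of_algebraMap_eq fun x => by
    rw [RingHom.algebraMap_toAlgebra, Localization.localRingHom_to_map]
    exact IsScalarTower.algebraMap_apply A' B' S x
  haveI : Module.Flat B' S := IsLocalization.flat S q.primeCompl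
  haveI : Module.Flat A' S := Module.Flat.trans A' B' S
  haveI : Module.Flat R S := (Module.flat_iff_of_isLocalization R p.primeCompl _).mpr inferInstance
  have hS : CAlgX.IsEssFinitePresentation R S :=
    GrothLib.FibreFlat.isEssFinitePresentation_localization (R := A') (A := B') p.primeCompl q.primeCompl
  -- quasi-regularity on the fibre
  let mS := (maximalIdeal R).map (algebraMap R S)
  have hmS : (p.map (algebraMap A' B')).map (algebraMap B' S) = mS := by
    show _ = (maximalIdeal R).map (algebraMap R S)
    rw [← Localization.AtPrime.map_eq_maximalIdeal, Ideal.map_map, Ideal.map_map,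
      ← IsScalarTower.algebraMap_eq, ← IsScalarTower.algebraMap_eq]
  let IB := Ideal.map (algebraMap A' B') I
  let P := (p.map (Ideal.Quotient.mk I)).map (algebraMap (A' ⧸ I) (B' ⧸ IB))
  have h1 := isQuasiRegular_quot (R := A' ⧸ I) (A := B' ⧸ IB) _ hq (p.map (Ideal.Quotient.mk I))
  have hP : P = (p.map (algebraMap A' B')).map (Ideal.Quotient.mk IB) := by
    show (p.map (Ideal.Quotient.mk I)).map (algebraMap (A' ⧸ I) (B' ⧸ IB)) = _
    rw [Ideal.map_map, Ideal.map_map]
    rfl
  let e : ((B' ⧸ IB) ⧸ P) ≃+* B' ⧸ p.map (algebraMap A' B') :=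
    (Ideal.quotEquivOfEq hP).trans (DoubleQuot.quotQuotEquivQuotOfLE (Ideal.map_mono hIp))
  have h2 := GrothLib.SeqKinds.isQuasiRegular_map e.toRingHom (RingHom.Flat.of_bijective e.bijective) _ h1
  have h3 := GrothLib.SeqKinds.isQuasiRegular_map _ (flat_quotientMap (S := S) (p.map (algebraMap A' B'))) _ h2
  let e' := Ideal.quotEquivOfEq hmS
  have h4 := GrothLib.SeqKinds.isQuasiRegular_map e'.toRingHom (RingHom.Flat.of_bijective e'.bijective) _ h3
  let a : Fin r → S := fun i => algebraMap B' S (f i)
  have h5 : CAlgX.IsQuasiRegular fun i => Ideal.Quotient.mk mS (a i) := h4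
  haveI := GrothLib.RelReg.isNoetherianRing_fibre (R := R) hS
  have hle : mS ≤ maximalIdeal S := GrothLib.Flatness.map_maximalIdeal_le
  haveI : Nontrivial (S ⧸ mS) := Ideal.Quotient.nontrivial_iff.mpr
    (ne_top_of_le_ne_top (maximalIdeal.isMaximal S).ne_top hle)
  haveI : IsLocalRing (S ⧸ mS) := .of_surjective' (Ideal.Quotient.mk mS) Ideal.Quotient.mk_surjective
  haveI : IsLocalHom (Ideal.Quotient.mk mS) := IsLocalHom.of_surjective _ Ideal.Quotient.mk_surjective
  have hreg : IsRegular (S ⧸ mS) ((List.ofFn a).map (Ideal.Quotient.mk mS)) := by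
    rw [List.map_ofFn]
    refine GrothLib.SeqKinds.isRegular_of_isQuasiRegular _ (fun i => ?_) h5
    rw [mem_maximalIdeal, mem_nonunits_iff]
    intro hu
    exact (IsLocalization.AtPrime.isUnit_to_map_iff S q (f i)).mp (hu.of_map (Ideal.Quotient.mk mS))
      (hJq (Ideal.subset_span (Set.mem_range_self i)))
  have h6 := flat_quot_of_fibre_regular hS a hreg
  have hJS : J.map (algebraMap B' S) = Ideal.span (Set.range a) := by
    rw [hJ, Ideal.map_span, ← Set.range_comp]; rfl
  rw [hJS]
  haveI : Module.Flat A' R := IsLocalization.flat R p.primeCompl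
  exact Module.Flat.trans A' R (S ⧸ Ideal.span (Set.range a))

end GrothLib.QRegNil
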